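import Cfsg.Prelude.Def_ClassificationK
set_option linter.all false

/-!
# Proper 2-generated core: basic facts

`S` a Sylow 2-subgroup of `G`, `H = kGeneratedCore 2 2 S` the subgroup generated by the normalizers
of the subgroups of `S` of 2-rank at least 2.
-/

set_option autoImplicit false

namespace Cfsg.Agent.TwoGenCore

open Cfsg Subgroup Pointwise

variable {G : Type*} [Group G]

/-- `X` contains two distinct commuting involutions. -/
def Four (X : Subgroup G) : Prop :=
  ∃ x ∈ X, ∃ y ∈ X, x ≠ 1 ∧ y ≠ 1 ∧ x ≠ y ∧ x * x = 1 ∧ y * y = 1 ∧ x * y = y * x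

theorem Four.mono {X Y : Subgroup G} (h : Four X) (hXY : X ≤ Y) : Four Y := by
  obtain ⟨x, hx, y, hy, h⟩ := h
  exact ⟨x, hXY hx, y, hXY hy, h⟩

theorem Four.conj {X : Subgroup G} (h : Four X) (g : G) :
    Four (X.map (MulAut.conj g).toMonoidHom) := by
  obtain ⟨x, hx, y, hy, h1, h2, h3, h4, h5, h6⟩ := h
  refine ⟨g * x * g⁻¹, ⟨x, hx, by simp⟩, g * y * g⁻¹, ⟨y, hy, by simp⟩, ?_, ?_, ?_, ?_, ?_, ?_⟩
  · intro h; exact h1 (by simpa using h)
  · intro h; exact h2 (by simpa using h)
  · intro h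
    exact h3 (mul_left_cancel (mul_right_cancel h))
  · calc g * x * g⁻¹ * (g * x * g⁻¹) = g * (x * x) * g⁻¹ := by group
      _ = 1 := by rw [h4]; group
  · calc g * y * g⁻¹ * (g * y * g⁻¹) = g * (y * y) * g⁻¹ := by group
      _ = 1 := by rw [h5]; group
  · calc g * x * g⁻¹ * (g * y * g⁻¹) = g * (x * y) * g⁻¹ := by group
      _ = g * (y * x) * g⁻¹ := by rw [h6]
      _ = g * y * g⁻¹ * (g * x * g⁻¹) := by group

/-- The four-group generated by two distinct commuting involutions. -/
def fourSub (x y : G) (hx : x * x = 1) (hy : y * y = 1) (hxy : x * y = y * x) : Subgroup G where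
  carrier := {g | g = 1 ∨ g = x ∨ g = y ∨ g = x * y}
  one_mem' := Or.inl rfl
  mul_mem' := by
    have e1 : x * (x * y) = y := by rw [← mul_assoc, hx, one_mul]
    have e2 : y * (x * y) = x := by rw [hxy, ← mul_assoc, hy, one_mul]
    have e3 : x * y * x = y := by rw [hxy, mul_assoc, hx, mul_one]
    have e4 : x * y * y = x := by rw [mul_assoc, hy, mul_one]
    have e5 : x * y * (x * y) = 1 := by rw [← mul_assoc, e3, hy]
    rintro a b (rfl | rfl | rfl | rfl) (rfl | rfl | rfl | rfl) <;>
      simp_all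
  inv_mem' := by
    have hx' : x⁻¹ = x := inv_eq_of_mul_eq_one_right hx
    have hy' : y⁻¹ = y := inv_eq_of_mul_eq_one_right hy
    rintro a (rfl | rfl | rfl | rfl)
    · simp
    · right; left; exact hx'
    · right; right; left; exact hy'
    · right; right; right; rw [mul_inv_rev, hx', hy', hxy]

theorem not_pRankLE_one_iff [Finite G] {X : Subgroup G} : ¬ PRankLE 2 1 X ↔ Four X := by
  constructor
  · intro h
    unfold PRankLE at h
    push Not at h
    obtain ⟨A, hA, hA2, hcard⟩ := h
    have hcard' : 2 < Nat.card A := by simpa using hcard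
    -- two distinct non-identity elements
    have : ∃ a : A, a ≠ 1 := by
      by_contra hne
      push Not at hne
      have : Nat.card A = 1 := by
        rw [Nat.card_eq_one_iff_unique]
        exact ⟨⟨fun a b => by rw [hne a, hne b]⟩, ⟨1⟩⟩
      omega
    obtain ⟨a, ha⟩ := this
    have : ∃ b : A, b ≠ 1 ∧ b ≠ a := by
      by_contra hne
      push Not at hne
      have hsub : (Set.univ : Set A) ⊆ {1, a} := by
        intro b _
        by_cases hb : b = 1
        · simp [hb]
        · simp [hne b hb]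
      have h1 : (Set.univ : Set A).ncard ≤ ({1, a} : Set A).ncard :=
        Set.ncard_le_ncard hsub (Set.toFinite _)
      rw [Set.ncard_univ] at h1
      have h2 := Set.ncard_insert_le (1 : A) {a}
      rw [Set.ncard_singleton] at h2
      omega
    obtain ⟨b, hb, hba⟩ := this
    have hsq : ∀ c : A, ((c : X) : G) * ((c : X) : G) = 1 := by
      intro c
      have := hA2 c c.2
      have h' : ((c : X) ^ 2 : X) = 1 := this
      have : (((c : X) ^ 2 : X) : G) = 1 := by rw [h']; rfl
      simpa [pow_two] using this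
    refine ⟨((a : X) : G), (a : X).2, ((b : X) : G), (b : X).2, ?_, ?_, ?_, hsq a, hsq b, ?_⟩
    · intro h
      exact ha (Subtype.ext (Subtype.ext (by simpa using h)))
    · intro h
      exact hb (Subtype.ext (Subtype.ext (by simpa using h)))
    · intro h
      exact hba (Subtype.ext (Subtype.ext h.symm))
    · have := hA.is_comm.comm a b
      have h' : ((a * b : A) : X) = ((b * a : A) : X) := by rw [this]
      have : (((a * b : A) : X) : G) = (((b * a : A) : X) : G) := by rw [h']
      simpa using this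
  · rintro ⟨x, hx, y, hy, h1, h2, h3, h4, h5, h6⟩ hr
    -- the four-group inside `X`
    let x' : X := ⟨x, hx⟩
    let y' : X := ⟨y, hy⟩
    have hx'2 : x' * x' = 1 := Subtype.ext h4
    have hy'2 : y' * y' = 1 := Subtype.ext h5
    have hxy' : x' * y' = y' * x' := Subtype.ext h6
    let V := fourSub x' y' hx'2 hy'2 hxy'
    have hV1 : ∀ a ∈ V, a ^ 2 = 1 := by
      have e5 : x' * y' * (x' * y') = 1 := by
        calc x' * y' * (x' * y') = x' * y' * (y' * x') := by rw [hxy']
          _ = x' * (y' * y') * x' := by group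
          _ = 1 := by rw [hy'2, mul_one, hx'2]
      rintro a (rfl | rfl | rfl | rfl)
      · simp
      · rw [pow_two]; exact hx'2
      · rw [pow_two]; exact hy'2
      · rw [pow_two]; exact e5
    have hVc : IsMulCommutative V := by
      refine ⟨⟨?_⟩⟩
      intro a b
      -- exponent 2 groups are commutative
      have ha := hV1 (a : X) a.2
      have hb := hV1 (b : X) b.2
      have hab := hV1 ((a * b : V) : X) (a * b).2
      apply Subtype.ext
      have ha' : ((a : X))⁻¹ = (a : X) := inv_eq_of_mul_eq_one_right (by rw [← pow_two]; exact ha)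
      have hb' : ((b : X))⁻¹ = (b : X) := inv_eq_of_mul_eq_one_right (by rw [← pow_two]; exact hb)
      have hab' : ((a * b : V) : X)⁻¹ = ((a * b : V) : X) :=
        inv_eq_of_mul_eq_one_right (by rw [← pow_two]; exact hab)
      have : ((a : X) * (b : X))⁻¹ = (a : X) * (b : X) := hab'
      rw [mul_inv_rev, ha', hb'] at this
      exact this.symm
    have hle := hr V hVc hV1
    have hsub : ({1, x', y'} : Set X) ⊆ (V : Set X) := by
      intro a ha
      simp only [Set.mem_insert_iff, Set.mem_singleton_iff] at ha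
      rcases ha with rfl | rfl | rfl
      · exact Or.inl rfl
      · exact Or.inr (Or.inl rfl)
      · exact Or.inr (Or.inr (Or.inl rfl))
    have hx'1 : x' ≠ 1 := fun h => h1 (congrArg Subtype.val h)
    have hy'1 : y' ≠ 1 := fun h => h2 (congrArg Subtype.val h)
    have hx'y' : x' ≠ y' := fun h => h3 (congrArg Subtype.val h)
    have hc : ({1, x', y'} : Set X).ncard = 3 := by
      rw [Set.ncard_eq_three]
      exact ⟨1, x', y', fun h => hx'1 h.symm, fun h => hy'1 h.symm, hx'y', rfl⟩
    have h3' : ({1, x', y'} : Set X).ncard ≤ (V : Set X).ncard :=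
      Set.ncard_le_ncard hsub (Set.toFinite _)
    have h4' : (V : Set X).ncard = Nat.card V := rfl
    rw [hc, h4'] at h3'
    simp at hle
    omega

/-- `H` is a proper subgroup containing the normalizer of each of its 2-subgroups of 2-rank at
least 2. -/
def Closed (H : Subgroup G) : Prop :=
  H ≠ ⊤ ∧ ∀ X : Subgroup G, X ≤ H → IsPGroup 2 X → Four X → normalizer (X : Set G) ≤ H

theorem fourSub_isPGroup {x y : G} (hx : x * x = 1) (hy : y * y = 1) (hxy : x * y = y * x) :
    IsPGroup 2 (fourSub x y hx hy hxy) := by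
  rintro ⟨a, ha⟩
  refine ⟨1, Subtype.ext ?_⟩
  have e5 : x * y * (x * y) = 1 := by
    calc x * y * (x * y) = x * y * (y * x) := by rw [hxy]
      _ = x * (y * y) * x := by group
      _ = 1 := by rw [hy, mul_one, hx]
  have : a * a = 1 := by
    rcases ha with rfl | rfl | rfl | rfl
    · simp
    · exact hx
    · exact hy
    · exact e5
  simpa [pow_two] using this

theorem left_mem_fourSub {x y : G} (hx : x * x = 1) (hy : y * y = 1) (hxy : x * y = y * x) :
    x ∈ fourSub x y hx hy hxy := Or.inr (Or.inl rfl)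

theorem right_mem_fourSub {x y : G} (hx : x * x = 1) (hy : y * y = 1) (hxy : x * y = y * x) :
    y ∈ fourSub x y hx hy hxy := Or.inr (Or.inr (Or.inl rfl))

theorem fourSub_le {x y : G} (hx : x * x = 1) (hy : y * y = 1) (hxy : x * y = y * x)
    {H : Subgroup G} (h1 : x ∈ H) (h2 : y ∈ H) : fourSub x y hx hy hxy ≤ H := by
  rintro a (rfl | rfl | rfl | rfl)
  · exact H.one_mem
  · exact h1
  · exact h2
  · exact H.mul_mem h1 h2

/-- The normalizer of a conjugate. -/
theorem normalizer_map_conj (X : Subgroup G) (g : G) :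
    normalizer ((X.map (MulAut.conj g).toMonoidHom : Subgroup G) : Set G) =
      (normalizer (X : Set G)).map (MulAut.conj g).toMonoidHom := by
  ext n
  constructor
  · intro hn
    refine ⟨g⁻¹ * n * g, ?_, by simp [mul_assoc]⟩
    rw [SetLike.mem_coe, mem_normalizer_iff]
    intro x
    rw [mem_normalizer_iff] at hn
    have h1 := hn (g * x * g⁻¹)
    constructor
    · intro hx
      obtain ⟨y, hy, hy'⟩ := h1.1 ⟨x, hx, by simp⟩
      have : y = g⁻¹ * n * g * x * (g⁻¹ * n * g)⁻¹ := by
        have h2 : g * y * g⁻¹ = n * (g * x * g⁻¹) * n⁻¹ := by simpa using hy'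
        calc y = g⁻¹ * (g * y * g⁻¹) * g := by group
          _ = g⁻¹ * (n * (g * x * g⁻¹) * n⁻¹) * g := by rw [h2]
          _ = _ := by group
      rw [← this]; exact hy
    · intro hx
      have h3 : n * (g * x * g⁻¹) * n⁻¹ ∈ ((X.map (MulAut.conj g).toMonoidHom : Subgroup G) : Set G) := by
        refine ⟨g⁻¹ * n * g * x * (g⁻¹ * n * g)⁻¹, hx, ?_⟩
        simp [mul_assoc]
      obtain ⟨y, hy, hy'⟩ := h1.2 h3
      have : y = x := by
        have h2 : g * y * g⁻¹ = g * x * g⁻¹ := by simpa using hy'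
        exact mul_left_cancel (mul_right_cancel h2)
      rw [← this]; exact hy
  · rintro ⟨m, hm, rfl⟩
    have hm' := (mem_normalizer_iff.1 hm)
    rw [mem_normalizer_iff]
    intro x
    constructor
    · rintro ⟨y, hy, rfl⟩
      refine ⟨m * y * m⁻¹, (hm' y).1 hy, ?_⟩
      simp [mul_assoc]
    · rintro ⟨y, hy, hy'⟩
      refine ⟨m⁻¹ * y * m, ?_, ?_⟩
      · have := (hm' (m⁻¹ * y * m)).2 (by
          have : m * (m⁻¹ * y * m) * m⁻¹ = y := by group
          rw [this]; exact hy)
        exact this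
      · have h2 : g * y * g⁻¹ = (g * m * g⁻¹) * x * (g * m * g⁻¹)⁻¹ := by simpa using hy'
        have : x = (g * m * g⁻¹)⁻¹ * (g * y * g⁻¹) * (g * m * g⁻¹) := by rw [h2]; group
        rw [this]
        simp [mul_assoc]

theorem IsPGroup_map_conj {X : Subgroup G} (hX : IsPGroup 2 X) (g : G) :
    IsPGroup 2 (X.map (MulAut.conj g).toMonoidHom) := hX.map _

theorem mem_map_conj {X : Subgroup G} {g x : G} :
    x ∈ X.map (MulAut.conj g).toMonoidHom ↔ g⁻¹ * x * g ∈ X := by
  constructor
  · rintro ⟨y, hy, rfl⟩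
    have : g⁻¹ * (g * y * g⁻¹) * g = y := by group
    simpa [this] using hy
  · intro h
    exact ⟨g⁻¹ * x * g, h, by simp [mul_assoc]⟩

theorem Closed.conj {H : Subgroup G} (hH : Closed H) (g : G) :
    Closed (H.map (MulAut.conj g).toMonoidHom) := by
  refine ⟨?_, ?_⟩
  · intro h
    apply hH.1
    rw [eq_top_iff]
    intro x _
    have : g * x * g⁻¹ ∈ H.map (MulAut.conj g).toMonoidHom := by rw [h]; trivial
    rw [mem_map_conj] at this
    have e : g⁻¹ * (g * x * g⁻¹) * g = x := by group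
    rwa [e] at this
  · intro X hX h2 h4
    have hle : X.map (MulAut.conj g⁻¹).toMonoidHom ≤ H := by
      intro y hy
      rw [mem_map_conj] at hy
      have := mem_map_conj.1 (hX hy)
      have e : g⁻¹ * (g⁻¹⁻¹ * y * g⁻¹) * g = y := by group
      rwa [e] at this
    have h5 := hH.2 _ hle (h2.map _) (h4.conj g⁻¹)
    rw [normalizer_map_conj] at h5
    intro n hn
    rw [mem_map_conj]
    apply h5
    rw [mem_map_conj]
    have e : g⁻¹⁻¹ * (g⁻¹ * n * g) * g⁻¹ = n := by group
    rw [e]; exact hn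

/-- A 2-subgroup which is maximal among the 2-subgroups of its normalizer is Sylow. -/
theorem isSylow_of_normalizer [Finite G] {X : Subgroup G} (hX : IsPGroup 2 X)
    (h : ∀ Y : Subgroup G, IsPGroup 2 Y → X ≤ Y → Y ≤ normalizer (X : Set G) → Y = X) :
    ∃ P : Sylow 2 G, (P : Subgroup G) = X := by
  obtain ⟨P, hP⟩ := hX.exists_le_sylow
  refine ⟨P, ?_⟩
  by_contra hne
  have : Fact (Nat.Prime 2) := ⟨Nat.prime_two⟩
  have : Group.IsNilpotent (P : Subgroup G) := P.isPGroup'.isNilpotent
  have hlt : X.subgroupOf (P : Subgroup G) < ⊤ := by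
    rw [lt_top_iff_ne_top]
    intro h'
    rw [subgroupOf_eq_top] at h'
    exact hne (le_antisymm h' hP)
  have hnc := Group.normalizerCondition_of_isNilpotent (G := (P : Subgroup G)) _ hlt
  have hY : IsPGroup 2 ((normalizer (X.subgroupOf (P : Subgroup G) : Set (P : Subgroup G))).map
      (P : Subgroup G).subtype) :=
    P.isPGroup'.to_le (map_subtype_le _)
  have hXY : X ≤ (normalizer (X.subgroupOf (P : Subgroup G) : Set (P : Subgroup G))).map
      (P : Subgroup G).subtype := by
    intro x hx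
    exact ⟨⟨x, hP hx⟩, le_normalizer (by rw [mem_subgroupOf]; exact hx), rfl⟩
  have hYN : (normalizer (X.subgroupOf (P : Subgroup G) : Set (P : Subgroup G))).map
      (P : Subgroup G).subtype ≤ normalizer (X : Set G) := by
    rintro _ ⟨y, hy, rfl⟩
    rw [mem_normalizer_iff]
    rw [SetLike.mem_coe, mem_normalizer_iff] at hy
    intro x
    constructor
    · intro hx
      have := (hy ⟨x, hP hx⟩).1 (by rw [mem_subgroupOf]; exact hx)
      simpa [mem_subgroupOf] using this
    · intro hx
      have hxP : x ∈ (P : Subgroup G) := by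
        have h1 : (y : G) * x * (y : G)⁻¹ ∈ (P : Subgroup G) := hP hx
        have h2 := P.mul_mem (P.mul_mem (P.inv_mem y.2) h1) y.2
        have e : (y : G)⁻¹ * ((y : G) * x * (y : G)⁻¹) * (y : G) = x := by group
        rwa [e] at h2
      have := (hy ⟨x, hxP⟩).2 (by rw [mem_subgroupOf]; exact hx)
      simpa [mem_subgroupOf] using this
  have heq := h _ hY hXY hYN
  apply (ne_of_lt hnc)
  ext y
  constructor
  · intro hy
    exact le_normalizer hy
  · intro hy
    rw [mem_subgroupOf, ← heq]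
    exact ⟨y, hy, rfl⟩

/-- Two Sylow 2-subgroups of `G` contained in `H` are conjugate in `H`. -/
theorem sylow_conj_in [Finite G] {H : Subgroup G} (P Q : Sylow 2 G) (hP : (P : Subgroup G) ≤ H)
    (hQ : (Q : Subgroup G) ≤ H) :
    ∃ h ∈ H, (P : Subgroup G).map (MulAut.conj h).toMonoidHom = (Q : Subgroup G) := by
  have : Fact (Nat.Prime 2) := ⟨Nat.prime_two⟩
  obtain ⟨h, hh⟩ := MulAction.exists_smul_eq H (P.subtype hP) (Q.subtype hQ)
  refine ⟨h, h.2, ?_⟩
  have h1 : ((h • P.subtype hP : Sylow 2 H) : Subgroup H) = ((Q.subtype hQ : Sylow 2 H) : Subgroup H) := by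
    rw [hh]
  rw [Sylow.coe_subgroup_smul] at h1
  ext x
  constructor
  · rintro ⟨y, hy, rfl⟩
    have : h * ⟨y, hP hy⟩ * h⁻¹ ∈ ((Q.subtype hQ : Sylow 2 H) : Subgroup H) := by
      rw [← h1]
      refine ⟨⟨y, hP hy⟩, ?_, rfl⟩
      rw [SetLike.mem_coe, Sylow.coe_subtype, mem_subgroupOf]
      exact hy
    rw [Sylow.coe_subtype, mem_subgroupOf] at this
    simpa using this
  · intro hx
    have hx' : (⟨x, hQ hx⟩ : H) ∈ ((Q.subtype hQ : Sylow 2 H) : Subgroup H) := by
      rw [Sylow.coe_subtype, mem_subgroupOf]; exact hx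
    rw [← h1] at hx'
    obtain ⟨y, hy, hy'⟩ := hx'
    rw [SetLike.mem_coe, Sylow.coe_subtype, mem_subgroupOf] at hy
    refine ⟨y, hy, ?_⟩
    have := congrArg Subtype.val hy'
    simpa using this

section Closed

variable [Finite G] {H : Subgroup G}

/-- A closed subgroup of 2-rank at least 2 contains a Sylow 2-subgroup; more precisely every
2-subgroup of `H` of 2-rank at least 2 which is Sylow in `H` is Sylow in `G`. -/
theorem Closed.exists_sylow (hH : Closed H) {X : Subgroup G} (hX2 : IsPGroup 2 X) (hXH : X ≤ H)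
    (hX : Four X) : ∃ P : Sylow 2 G, X ≤ P ∧ (P : Subgroup G) ≤ H := by
  have : Fact (Nat.Prime 2) := ⟨Nat.prime_two⟩
  have hX' : IsPGroup 2 (X.subgroupOf H) :=
    hX2.comap_of_injective H.subtype (Subgroup.subtype_injective H)
  obtain ⟨Q, hQ⟩ := hX'.exists_le_sylow
  have hXQ : X ≤ (Q : Subgroup H).map H.subtype := by
    intro x hx
    exact ⟨⟨x, hXH hx⟩, hQ (by rw [mem_subgroupOf]; exact hx), rfl⟩
  have hQ2 : IsPGroup 2 ((Q : Subgroup H).map H.subtype) := Q.isPGroup'.map _
  have hQH : (Q : Subgroup H).map H.subtype ≤ H := map_subtype_le _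
  obtain ⟨P, hP⟩ := isSylow_of_normalizer hQ2 (by
    intro Y hY hle hYN
    have hYH : Y ≤ H := hYN.trans (hH.2 _ hQH hQ2 (hX.mono hXQ))
    have hY' : IsPGroup 2 (Y.subgroupOf H) :=
      hY.comap_of_injective H.subtype (Subgroup.subtype_injective H)
    have hle' : (Q : Subgroup H) ≤ Y.subgroupOf H := by
      intro q hq
      rw [mem_subgroupOf]
      exact hle ⟨q, hq, rfl⟩
    have := Q.is_maximal' hY' hle'
    apply le_antisymm _ hle
    intro y hy
    refine ⟨⟨y, hYH hy⟩, ?_, rfl⟩
    rw [← this, SetLike.mem_coe, mem_subgroupOf]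
    exact hy)
  exact ⟨P, hP ▸ hXQ, hP ▸ hQH⟩

/-- **(B2)** A subgroup of 2-rank at least 2 is contained in at most one conjugate of a closed
subgroup. -/
theorem Closed.mem_of_le_conj (hH : Closed H) {X : Subgroup G} (hX : Four X) (hXH : X ≤ H)
    {g : G} (hXg : X ≤ H.map (MulAut.conj g).toMonoidHom) : g ∈ H := by
  have : Fact (Nat.Prime 2) := ⟨Nat.prime_two⟩
  obtain ⟨x, hx, y, hy, h1, h2, h3, h4, h5, h6⟩ := hX
  set K : Subgroup G := H ⊓ H.map (MulAut.conj g).toMonoidHom with hK
  have hKH : K ≤ H := inf_le_left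
  have hKg : K ≤ H.map (MulAut.conj g).toMonoidHom := inf_le_right
  let V := fourSub x y h4 h5 h6
  have hVK : V ≤ K := fourSub_le h4 h5 h6 ⟨hXH hx, hXg hx⟩ ⟨hXH hy, hXg hy⟩
  have hV4 : Four V := ⟨x, left_mem_fourSub h4 h5 h6, y, right_mem_fourSub h4 h5 h6, h1, h2, h3,
    h4, h5, h6⟩
  have hV2 : IsPGroup 2 V := fourSub_isPGroup h4 h5 h6
  have hV' : IsPGroup 2 (V.subgroupOf K) :=
    hV2.comap_of_injective K.subtype (Subgroup.subtype_injective K)
  obtain ⟨Q, hQ⟩ := hV'.exists_le_sylow
  have hVQ : V ≤ (Q : Subgroup K).map K.subtype := by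
    intro x hx
    exact ⟨⟨x, hVK hx⟩, hQ (by rw [mem_subgroupOf]; exact hx), rfl⟩
  have hQ2 : IsPGroup 2 ((Q : Subgroup K).map K.subtype) := Q.isPGroup'.map _
  have hQK : (Q : Subgroup K).map K.subtype ≤ K := map_subtype_le _
  have hQ4 : Four ((Q : Subgroup K).map K.subtype) := hV4.mono hVQ
  obtain ⟨P, hP⟩ := isSylow_of_normalizer hQ2 (by
    intro Y hY hle hYN
    have hYK : Y ≤ K := le_inf (hYN.trans (hH.2 _ (hQK.trans hKH) hQ2 hQ4))
      (hYN.trans ((hH.conj g).2 _ (hQK.trans hKg) hQ2 hQ4))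
    have hY' : IsPGroup 2 (Y.subgroupOf K) :=
      hY.comap_of_injective K.subtype (Subgroup.subtype_injective K)
    have hle' : (Q : Subgroup K) ≤ Y.subgroupOf K := by
      intro q hq
      rw [mem_subgroupOf]
      exact hle ⟨q, hq, rfl⟩
    have := Q.is_maximal' hY' hle'
    apply le_antisymm _ hle
    intro y hy
    refine ⟨⟨y, hYK hy⟩, ?_, rfl⟩
    rw [← this, SetLike.mem_coe, mem_subgroupOf]
    exact hy)
  -- `P ≤ H` and `g⁻¹ P g ≤ H`
  have hPH : (P : Subgroup G) ≤ H := by rw [hP]; exact hQK.trans hKH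
  have hPg : (P : Subgroup G) ≤ H.map (MulAut.conj g).toMonoidHom := by
    rw [hP]; exact hQK.trans hKg
  have hP4 : Four (P : Subgroup G) := by rw [hP]; exact hQ4
  obtain ⟨P', hP'⟩ : ∃ P' : Sylow 2 G,
      (P' : Subgroup G) = (P : Subgroup G).map (MulAut.conj g⁻¹).toMonoidHom := ⟨g⁻¹ • P, rfl⟩
  have hP'H : (P' : Subgroup G) ≤ H := by
    rw [hP']
    intro y hy
    rw [mem_map_conj] at hy
    have := mem_map_conj.1 (hPg hy)
    have e : g⁻¹ * (g⁻¹⁻¹ * y * g⁻¹) * g = y := by group
    rwa [e] at this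
  obtain ⟨h, hh, he⟩ := sylow_conj_in P P' hPH hP'H
  -- `g h` normalizes `P`
  have hn : g * h ∈ normalizer ((P : Subgroup G) : Set G) := by
    have hmap : (P : Subgroup G).map (MulAut.conj (g * h)).toMonoidHom = P := by
      have : (P : Subgroup G).map (MulAut.conj (g * h)).toMonoidHom =
          ((P : Subgroup G).map (MulAut.conj h).toMonoidHom).map (MulAut.conj g).toMonoidHom := by
        rw [Subgroup.map_map]; congr 1; ext z; simp [mul_assoc]
      rw [this, he, hP', Subgroup.map_map]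
      have e : ((MulAut.conj g).toMonoidHom.comp (MulAut.conj g⁻¹).toMonoidHom) =
          MonoidHom.id G := by
        ext z; simp [mul_assoc]
      rw [e, Subgroup.map_id]
    rw [mem_normalizer_iff]
    intro z
    constructor
    · intro hz
      rw [← hmap]
      exact ⟨z, hz, MulAut.conj_apply _ _⟩
    · intro hz
      rw [← hmap, mem_map_conj] at hz
      have e : (g * h)⁻¹ * (g * h * z * (g * h)⁻¹) * (g * h) = z := by group
      rwa [e] at hz
  have := hH.2 _ hPH P.isPGroup' hP4 hn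
  have h7 := H.mul_mem this (H.inv_mem hh)
  have e : g * h * h⁻¹ = g := by group
  rwa [e] at h7

/-- Elementwise form of (B2). -/
theorem Closed.mem_of_mem_conj (hH : Closed H) {x y : G} (hx : x ∈ H) (hy : y ∈ H) (h1 : x ≠ 1)
    (h2 : y ≠ 1) (h3 : x ≠ y) (h4 : x * x = 1) (h5 : y * y = 1) (h6 : x * y = y * x) {g : G}
    (hxg : g⁻¹ * x * g ∈ H) (hyg : g⁻¹ * y * g ∈ H) : g ∈ H := by
  refine hH.mem_of_le_conj (X := fourSub x y h4 h5 h6) ⟨x, left_mem_fourSub h4 h5 h6, y,
    right_mem_fourSub h4 h5 h6, h1, h2, h3, h4, h5, h6⟩ (fourSub_le h4 h5 h6 hx hy)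
    (fourSub_le h4 h5 h6 (mem_map_conj.2 hxg) (mem_map_conj.2 hyg))

/-- A closed subgroup of 2-rank at least 2 is self-normalizing. -/
theorem Closed.normalizer_le (hH : Closed H) (h4 : Four H) : normalizer (H : Set G) ≤ H := by
  intro g hg
  refine hH.mem_of_le_conj h4 le_rfl ?_
  intro x hx
  rw [mem_map_conj]
  have := (mem_normalizer_iff.1 (inv_mem hg) x).1 hx
  simpa using this

end Closed

section Core

variable [Finite G] (S : Sylow 2 G)

theorem normalizer_le_core {Q : Subgroup G} (hQ : Q ≤ (S : Subgroup G)) (h : Four Q) :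
    normalizer (Q : Set G) ≤ kGeneratedCore 2 2 (S : Subgroup G) := by
  have hQ' : ¬ PRankLE 2 (2 - 1) Q := not_pRankLE_one_iff.2 h
  exact le_iSup (fun Q : {Q : Subgroup G // Q ≤ (S : Subgroup G) ∧ ¬ PRankLE 2 (2 - 1) Q} =>
    normalizer ((Q : Subgroup G) : Set G)) ⟨Q, hQ, hQ'⟩

theorem sylow_le_core (h : Four (S : Subgroup G)) :
    (S : Subgroup G) ≤ kGeneratedCore 2 2 (S : Subgroup G) :=
  le_trans le_normalizer (normalizer_le_core S le_rfl h)

/-- **(B1)** If the 2-generated core is proper it is closed. -/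
theorem closed_core (h : Four (S : Subgroup G)) (hne : kGeneratedCore 2 2 (S : Subgroup G) ≠ ⊤) :
    Closed (kGeneratedCore 2 2 (S : Subgroup G)) := by
  have : Fact (Nat.Prime 2) := ⟨Nat.prime_two⟩
  refine ⟨hne, ?_⟩
  intro X hXH hX2 hX4
  have hSH := sylow_le_core S h
  set H := kGeneratedCore 2 2 (S : Subgroup G) with hH
  have hX' : IsPGroup 2 (X.subgroupOf H) :=
    hX2.comap_of_injective H.subtype (Subgroup.subtype_injective H)
  obtain ⟨Q, hQ⟩ := hX'.exists_le_sylow
  obtain ⟨k, hk⟩ := MulAction.exists_smul_eq H Q (S.subtype hSH)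
  have h1 : ((k • Q : Sylow 2 H) : Subgroup H) = ((S.subtype hSH : Sylow 2 H) : Subgroup H) := by
    rw [hk]
  rw [Sylow.coe_subgroup_smul] at h1
  have hle : X.map (MulAut.conj (k : G)).toMonoidHom ≤ (S : Subgroup G) := by
    rintro _ ⟨x, hx, rfl⟩
    have : k * ⟨x, hXH hx⟩ * k⁻¹ ∈ ((S.subtype hSH : Sylow 2 H) : Subgroup H) := by
      rw [← h1]
      exact ⟨⟨x, hXH hx⟩, hQ (by rw [mem_subgroupOf]; exact hx), rfl⟩
    rw [Sylow.coe_subtype, mem_subgroupOf] at this
    simpa using this
  have h5 := normalizer_le_core S hle (hX4.conj k)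
  rw [normalizer_map_conj] at h5
  intro n hn
  have h6 : (k : G) * n * (k : G)⁻¹ ∈ H := h5 ⟨n, hn, by simp⟩
  have h7 := H.mul_mem (H.mul_mem (H.inv_mem k.2) h6) k.2
  have e : (k : G)⁻¹ * ((k : G) * n * (k : G)⁻¹) * (k : G) = n := by group
  rwa [e] at h7

end Core

/-- Summary: a group with a proper 2-generated core has a closed subgroup containing a Sylow
2-subgroup. -/
theorem exists_closed [Finite G] (h : HasProperTwoGeneratedCore G) :
    ∃ (S : Sylow 2 G) (H : Subgroup G), (S : Subgroup G) ≤ H ∧ Four (S : Subgroup G) ∧ Closed H := by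
  have : Fact (Nat.Prime 2) := ⟨Nat.prime_two⟩
  obtain ⟨h2, S, hS⟩ := h
  have hG4 : Four (⊤ : Subgroup G) := by
    rw [← not_pRankLE_one_iff]
    intro h
    apply h2
    intro A hA hA2
    have h3 : Nat.card (A.map (Subgroup.topEquiv (G := G)).symm.toMonoidHom) ≤ 2 ^ 1 := by
      refine h _ ?_ ?_
      · refine ⟨⟨?_⟩⟩
        rintro ⟨_, a, ha, rfl⟩ ⟨_, b, hb, rfl⟩
        apply Subtype.ext
        have := congrArg Subtype.val (hA.is_comm.comm ⟨a, ha⟩ ⟨b, hb⟩)
        have h' : a * b = b * a := this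
        show (topEquiv (G := G)).symm.toMonoidHom a * (topEquiv (G := G)).symm.toMonoidHom b = _
        rw [← map_mul, h', map_mul]
        rfl
      · rintro _ ⟨a, ha, rfl⟩
        rw [← map_pow, hA2 a ha, map_one]
    have e := Nat.card_congr (A.equivMapOfInjective (topEquiv (G := G)).symm.toMonoidHom
      (topEquiv (G := G)).symm.injective).toEquiv
    rw [e]
    exact h3
  obtain ⟨x, _, y, _, h1, h2', h3, h4, h5, h6⟩ := hG4
  obtain ⟨P, hP⟩ := (fourSub_isPGroup h4 h5 h6).exists_le_sylow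
  obtain ⟨g, hg⟩ := MulAction.exists_smul_eq G P S
  have hS4 : Four (S : Subgroup G) := by
    have hP4 : Four (P : Subgroup G) := ⟨x, hP (left_mem_fourSub h4 h5 h6), y,
      hP (right_mem_fourSub h4 h5 h6), h1, h2', h3, h4, h5, h6⟩
    have := hP4.conj g
    have e : (P : Subgroup G).map (MulAut.conj g).toMonoidHom = (S : Subgroup G) := by
      rw [← hg]; rfl
    rwa [e] at this
  exact ⟨S, _, sylow_le_core S hS4, hS4, closed_core S hS4 hS⟩

end Cfsg.Agent.TwoGenCore
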